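import Groth.Agent.FModLib.QFormalLim

/-!
# Affine acyclicity of limits of quasi-coherent systems
-/

set_option linter.style.haveILetI false
set_option backward.isDefEq.respectTransparency false
set_option backward.isDefEq.respectTransparency.types false

universe u

open CategoryTheory CategoryTheory.Limits AlgebraicGeometry TopologicalSpace Opposite Topology

noncomputable section

namespace Groth.Agent.RlimQCoh7

open Groth.Agent FModLib

variable {X : Scheme.{u}} (G : ℕᵒᵖ ⥤ X.Modules)

/-- Higher cohomology on affine opens of the limit of a quasi-coherent system with eventually surjective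
transition maps vanishes. -/
theorem subsingleton_HHon_limit (hq : ∀ n, Coh.IsQCoh (G.obj (op n))) (N : ℕ)
    (he : ∀ n, N ≤ n → Epi (G.map (homOfLE (Nat.le_succ n)).op))
    (U : X.Opens) (hU : IsAffineOpen U) (p : ℕ) (hp : 0 < p) :
    Subsingleton (Coh.HHon X (limit G) U p) := by
  obtain ⟨q, rfl⟩ : ∃ q, p = q + 1 := ⟨p - 1, by omega⟩
  letI : HasDerivedCategory.{u} (CohTop.Ab X.toPresheafedSpace.carrier) :=
    Groth.Agent.H9Misc.BrownGroth.smallDerived _ fun K => by
      obtain ⟨J, s, hJ, hs, -, -⟩ := Groth.Agent.TriCat.exists_kInjective_resolution'.{u} K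
      exact ⟨J, s, hJ, hs⟩
  haveI : HasProduct fun n => (DerivedCategory.singleFunctor (CohTop.Ab X.toPresheafedSpace.carrier) 0).obj (gAb G n) :=
    DLim.hasProduct_nat _
  obtain ⟨-, hv⟩ := DLim.isRlim_single (gAb G) (gAbTrans G)
    (DLim.isCoveredBy_of_isBasis (B := {V : X.Opens | IsAffineOpen V}) X.isBasis_affineOpens)
    (fun V hV p n => QCoh.subsingleton_HU_of_isAffineOpen (hq n) hV p) (fun V hV b => by
      obtain ⟨w, hw⟩ := DLim.limOne_of_eventually_surjective N (fun n => (gAb G n).obj.obj (op V))
        (fun n => ((gAbTrans G n).hom.app (op V)).hom) (fun n hn => by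
          haveI := he n hn
          exact QCoh.app_surjective_of_epi (hq (n + 1)) (hq n) (G.map (homOfLE (Nat.le_succ n)).op) hV) b
      exact ⟨w, funext hw⟩)
  obtain ⟨E, -⟩ := exists_toSheaf_limit_iso G
  have h1 : Subsingleton (CohTop.HU (X := X.toPresheafedSpace.carrier) (QCoh.abSheaf (limit G)) (q + 1) U) :=
    ((((Sheaf.cohomologyPresheafFunctor (Opens.grothendieckTopology X.toPresheafedSpace.carrier) (q + 1)).mapIso E).app
      (op U)).addCommGroupIsoToAddEquiv.toEquiv.subsingleton_congr).2 (hv U hU q)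
  have e : (U.ι.isOpenEmbedding.isOpenMap.functor.obj ⊤ : X.Opens) = U :=
    Opens.ext (Set.image_univ.trans U.range_ι)
  have h2 := (QCoh.Ab.subsingleton_HU_restr_iff (U.ι.isOpenEmbedding) q (QCoh.abSheaf (limit G)) ⊤).2
    (by rw [e]; exact h1)
  exact (SiteBase.huTerminalEquiv isTerminalTop _ (q + 1)).toEquiv.subsingleton_congr.1 h2

end Groth.Agent.RlimQCoh7
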