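import Groth.Agent.KFlatLib.Scheme.DQCohLimit
import Groth.Agent.QCoh.Support
import Mathlib.Algebra.Homology.DerivedCategory.SingleTriangle
import Mathlib.CategoryTheory.Functor.OfSequence

/-!
# Countable products and derived limits of quasi-coherent modules in `D(O_X)`
-/

set_option autoImplicit false
set_option linter.style.haveILetI false
set_option backward.isDefEq.respectTransparency false
set_option backward.isDefEq.respectTransparency.types false

universe u

open CategoryTheory CategoryTheory.Limits AlgebraicGeometry Opposite Pretriangulated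

attribute [local instance] HasDerivedCategory.standard

noncomputable section

namespace Groth.Agent.RlimQCoh7

open Groth.Agent.KFlatLib

variable {X : Scheme.{u}} (M : ℕ → X.Modules) [HasProduct fun n => DCoh.inD X (M n)]

local notation "Φ" => DerivedCategory.singleFunctor X.Modules 0

/-- The comparison from the product in the abelian category. -/
def prodComparison : DCoh.inD X (∏ᶜ M) ⟶ ∏ᶜ fun n => DCoh.inD X (M n) :=
  Pi.lift fun n => (DerivedCategory.singleFunctor X.Modules 0).map (Pi.π M n)

lemma prodComparison_π (n : ℕ) :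
    prodComparison M ≫ Pi.π (fun n => DCoh.inD X (M n)) n =
      (DerivedCategory.singleFunctor X.Modules 0).map (Pi.π M n) :=
  Pi.lift_π _ _

lemma isGE_prod : (∏ᶜ fun n => DCoh.inD X (M n)).IsGE 0 := by
  refine (DerivedCategory.TStructure.t.isGE_iff_orthogonal (-1) 0 (by omega) _).2 fun Y f hY =>
    Pi.hom_ext _ _ fun n => ?_
  rw [zero_comp]
  exact DerivedCategory.TStructure.t.zero _ (-1) 0 (by omega)

/-- The product in `D(O_X)` of modules acyclic on affines is concentrated in degree zero. -/
theorem isZero_HD_prod (hM : ∀ n, SAcyclic (M n)) (q : ℤ) (hq : q ≠ 0) :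
    IsZero (DCoh.HD (∏ᶜ fun n => DCoh.inD X (M n)) q) := by
  haveI := isGE_prod M
  rcases lt_or_gt_of_ne hq with hq | hq
  · exact DerivedCategory.isZero_of_isGE _ 0 q hq
  let P := ∏ᶜ fun n => DCoh.inD X (M n)
  refine IsZero.of_iso ?_
    (((DerivedCategory.homologyFunctor X.Modules 0).shiftIso q 0 q (add_zero q)).app P).symm
  refine (IsZero.iff_id_eq_zero _).2 (eq_zero_of_secObj _ fun V hV s => ?_)
  rw [Category.comp_id]
  refine secObj_hom_eq_zero_of_local s fun x hx => ?_
  obtain ⟨W, hxW, hWV, hW, hlift⟩ := exists_local_lift (P⟦q⟧) s hx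
  refine ⟨W, hxW, hWV, fun hle => ?_⟩
  obtain ⟨φ, hφ⟩ := hlift hle
  have h0 : φ = 0 := Fan.IsLimit.hom_ext
    (isLimitFanMkObjOfIsLimit (shiftFunctor (DCoh.D X) q) _ _ (productIsProduct _)) _ _ fun n => by
      rw [zero_comp]
      exact hom_secObj_shift_eq_zero hW (hM n) q hq _
  rw [h0, psi_zero, secEquiv_zero] at hφ
  exact hφ.symm

/-- The product in `D(O_X)` of modules acyclic on affines is their product as modules. -/
theorem isIso_prodComparison (hM : ∀ n, SAcyclic (M n)) : IsIso (prodComparison M) := by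
  let P := ∏ᶜ fun n => DCoh.inD X (M n)
  haveI : P.IsGE 0 := isGE_prod M
  haveI : P.IsLE 0 := (DerivedCategory.isLE_iff _ _).2 fun i hi => isZero_HD_prod M hM i (by omega)
  obtain ⟨G, ⟨e⟩⟩ := DerivedCategory.exists_iso_singleFunctor_obj_of_isGE_of_isLE P 0
  choose h hh using fun n => (DerivedCategory.singleFunctor X.Modules 0).map_surjective
    (e.inv ≫ Pi.π (fun n => DCoh.inD X (M n)) n)
  refine ⟨e.hom ≫ (DerivedCategory.singleFunctor X.Modules 0).map (Pi.lift h), ?_, ?_⟩
  · obtain ⟨k, hk⟩ := (DerivedCategory.singleFunctor X.Modules 0).map_surjective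
      (prodComparison M ≫ e.hom ≫ (DerivedCategory.singleFunctor X.Modules 0).map (Pi.lift h))
    rw [← hk]
    suffices k = 𝟙 _ by rw [this]; exact CategoryTheory.Functor.map_id _ _
    refine Pi.hom_ext _ _ fun n => (DerivedCategory.singleFunctor X.Modules 0).map_injective ?_
    rw [Functor.map_comp, hk, Category.id_comp, Category.assoc, Category.assoc, ← Functor.map_comp,
      Pi.lift_π, hh, Iso.hom_inv_id_assoc, prodComparison_π]
  · refine Pi.hom_ext _ _ fun n => ?_
    rw [Category.id_comp, Category.assoc, Category.assoc, prodComparison_π, ← Functor.map_comp,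
      Pi.lift_π, hh, Iso.hom_inv_id_assoc]

variable (F : ℕ → X.Modules) (t : ∀ n, F (n + 1) ⟶ F n)

/-- Identity minus shift. -/
def oneSubShift : ∏ᶜ F ⟶ ∏ᶜ F := Pi.lift fun n => Pi.π F n - Pi.π F (n + 1) ≫ t n

/-- The limit of a system, in the product. -/
def limι : limit (Functor.ofOpSequence t) ⟶ ∏ᶜ F :=
  Pi.lift fun n => limit.π (Functor.ofOpSequence t) (op n)

lemma limit_w (n : ℕ) :
    limit.π (Functor.ofOpSequence t) (op (n + 1)) ≫ t n = limit.π (Functor.ofOpSequence t) (op n) := by
  refine Eq.trans ?_ (limit.w (Functor.ofOpSequence t) (homOfLE (Nat.le_succ n)).op)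
  exact congrArg (_ ≫ ·) (Functor.ofOpSequence_map_homOfLE_succ (X := F) t n).symm

lemma limι_oneSubShift : limι F t ≫ oneSubShift F t = 0 :=
  Pi.hom_ext _ _ fun n => by
    rw [oneSubShift, Category.assoc, Pi.lift_π, Preadditive.comp_sub, zero_comp, ← Category.assoc, limι,
      Pi.lift_π, Pi.lift_π]
    exact sub_eq_zero.2 (limit_w F t n).symm

lemma epi_oneSubShift (hF : ∀ n, Coh.IsQCoh (F n)) (N : ℕ) (ht : ∀ n, N ≤ n → Epi (t n)) :
    Epi (oneSubShift F t) := by
  refine (Preadditive.epi_iff_cancel_zero _).2 fun Z g hg => eq_zero_of_secObj g fun V hV y => ?_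
  have hs : ∀ n, N ≤ n → Function.Surjective (Preadditive.rightComp (secObj V) (t n)) := fun n hn z => by
    haveI := ht n hn
    obtain ⟨a, ha⟩ := QCoh.app_surjective_of_epi (hF (n + 1)) (hF n) (t n)
      (V.ι_image_top.symm ▸ hV : IsAffineOpen (V.ι ''ᵁ ⊤)) (secEquiv V _ z)
    refine ⟨(secEquiv V _).symm a, (secEquiv V _).injective ?_⟩
    show secEquiv V _ ((secEquiv V _).symm a ≫ t n) = _
    rw [secEquiv_naturality, Equiv.apply_symm_apply, ha]
  obtain ⟨x, -, hx⟩ := exists_system_sol N (fun n => secObj V ⟶ F n)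
    (fun n => Preadditive.rightComp (secObj V) (t n)) hs (fun n => y ≫ Pi.π F n) 0
  have hy : Pi.lift x ≫ oneSubShift F t = y := Pi.hom_ext _ _ fun n => by
    rw [oneSubShift, Category.assoc, Pi.lift_π, Preadditive.comp_sub, ← Category.assoc, Pi.lift_π, Pi.lift_π]
    exact hx n
  rw [← hy, Category.assoc, hg, comp_zero]

/-- The sequence computing a limit of modules. -/
def limSeq : ShortComplex X.Modules :=
  ShortComplex.mk (limι F t) (oneSubShift F t) (limι_oneSubShift F t)

lemma mono_limι : Mono (limι F t) :=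
  ⟨fun u v h => limit.hom_ext fun n => by
    have := congrArg (· ≫ Pi.π F n.unop) h
    simp only [limι, Category.assoc, Pi.lift_π] at this
    exact this⟩

lemma exact_limSeq : (limSeq F t).Exact := by
  haveI := mono_limι F t
  haveI : Mono (limSeq F t).f := mono_limι F t
  refine ShortComplex.exact_of_f_is_kernel _ (KernelFork.IsLimit.ofι' _ _ fun {W} k hk => ?_)
  have hk' : ∀ n, k ≫ Pi.π F n = (k ≫ Pi.π F (n + 1)) ≫ t n := fun n => by
    have hk0 : k ≫ oneSubShift F t = 0 := hk
    have h := congrArg (· ≫ Pi.π F n) hk0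
    simp only [oneSubShift, Category.assoc, Pi.lift_π, Preadditive.comp_sub, zero_comp] at h
    exact (sub_eq_zero.1 h).trans (Category.assoc _ _ _).symm
  refine ⟨limit.lift (Functor.ofOpSequence t) ⟨W, NatTrans.ofOpSequence (fun n => k ≫ Pi.π F n) fun n => ?_⟩, ?_⟩
  · refine (Category.id_comp _).trans ((hk' n).trans ?_)
    exact congrArg (_ ≫ ·) (Functor.ofOpSequence_map_homOfLE_succ (X := F) t n).symm
  · refine Pi.hom_ext _ _ fun n => ?_
    change (limit.lift _ _ ≫ limι F t) ≫ _ = _
    rw [Category.assoc]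
    erw [Pi.lift_π, limit.lift_π]
    rfl

/-- The derived limit in `D(O_X)` of a system of quasi-coherent modules with eventually surjective
transition maps is its limit. -/
theorem isRlim_single (hF : ∀ n, Coh.IsQCoh (F n)) (N : ℕ) (ht : ∀ n, N ≤ n → Epi (t n))
    [HasProduct fun n => DCoh.inD X (F n)] :
    DCoh.IsRlim (fun n => DCoh.inD X (F n)) (fun n => (DerivedCategory.singleFunctor X.Modules 0).map (t n))
      (DCoh.inD X (limit (Functor.ofOpSequence t))) := by
  haveI := isIso_prodComparison F fun n => sAcyclic_of_isQCoh (hF n)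
  haveI := epi_oneSubShift F t hF N ht
  haveI := mono_limι F t
  have hS : (limSeq F t).ShortExact :=
    { exact := exact_limSeq F t, mono_f := ‹_›, epi_g := ‹_› }
  let e := asIso (prodComparison F)
  refine ⟨(DerivedCategory.singleFunctor X.Modules 0).map (limι F t) ≫ e.hom,
    e.inv ≫ hS.singleTriangle.mor₃, isomorphic_distinguished _ hS.singleTriangle_distinguished _
      (Triangle.isoMk _ _ (Iso.refl _) e.symm e.symm ?_ ?_ ?_)⟩
  · show ((DerivedCategory.singleFunctor X.Modules 0).map (limι F t) ≫ e.hom) ≫ e.inv = 𝟙 _ ≫ _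
    rw [Category.assoc, e.hom_inv_id, Category.comp_id, Category.id_comp]
    rfl
  · show (Pi.lift fun n => Pi.π (fun n => DCoh.inD X (F n)) n -
      Pi.π (fun n => DCoh.inD X (F n)) (n + 1) ≫ (DerivedCategory.singleFunctor X.Modules 0).map (t n)) ≫ e.inv =
      e.inv ≫ (DerivedCategory.singleFunctor X.Modules 0).map (oneSubShift F t)
    rw [Iso.comp_inv_eq, Category.assoc, Iso.eq_inv_comp]
    refine Pi.hom_ext _ _ fun n => ?_
    simp only [Category.assoc, Pi.lift_π, Preadditive.comp_sub, oneSubShift, asIso_hom, e, prodComparison_π,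
      ← Functor.map_comp]
    rw [← Category.assoc, prodComparison_π, ← Functor.map_comp, ← Functor.map_sub]
  · show (e.inv ≫ hS.singleTriangle.mor₃) ≫ (𝟙 _)⟦(1 : ℤ)⟧' = e.inv ≫ hS.singleTriangle.mor₃
    rw [CategoryTheory.Functor.map_id, Category.comp_id]

end Groth.Agent.RlimQCoh7
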